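import Mathlib.RingTheory.Bialgebra.Convolution
import Mathlib.RingTheory.Bialgebra.Equiv
import Mathlib.RingTheory.Bialgebra.TensorProduct

/-!
Commutative bialgebras with the same monoids of points are isomorphic.
-/

set_option autoImplicit false
set_option linter.style.haveILetI false

universe u

open TensorProduct Coalgebra WithConv

noncomputable section

namespace Groth.Agent.CartChar

theorem nonempty_bialgEquiv_of_points {k : Type u} [Field k] {B D : Type u} [CommRing B] [Bialgebra k B]
    [CommRing D] [Bialgebra k D]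
    (E : ∀ (R : Type u) [CommRing R] [Algebra k R], WithConv (B →ₐ[k] R) ≃* WithConv (D →ₐ[k] R))
    (hE : ∀ (R R' : Type u) [CommRing R] [Algebra k R] [CommRing R'] [Algebra k R'] (φ : R →ₐ[k] R')
      (g : WithConv (B →ₐ[k] R)), E R' (toConv (φ.comp g.ofConv)) = toConv (φ.comp (E R g).ofConv)) :
    Nonempty (D ≃ₐc[k] B) := by
  let e : D →ₐ[k] B := (E B (toConv (AlgHom.id k B))).ofConv
  have key : ∀ (R : Type u) [CommRing R] [Algebra k R] (φ : B →ₐ[k] R), (E R (toConv φ)).ofConv = φ.comp e :=
    fun R _ _ φ => by
      have := hE B R φ (toConv (AlgHom.id k B))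
      rw [ofConv_toConv, AlgHom.comp_id] at this
      rw [this]
  let g₀ : B →ₐ[k] D := ((E D).symm (toConv (AlgHom.id k D))).ofConv
  have h1 : g₀.comp e = AlgHom.id k D := by
    rw [← key, toConv_ofConv, MulEquiv.apply_symm_apply]
  have h2 : e.comp g₀ = AlgHom.id k B := by
    have h3 : (E B) (toConv (e.comp g₀)) = E B (toConv (AlgHom.id k B)) := by
      apply WithConv.ext
      rw [key, key, AlgHom.comp_assoc, h1, AlgHom.comp_id, AlgHom.id_comp]
    exact congrArg WithConv.ofConv ((E B).injective h3)
  have hcounit : (Bialgebra.counitAlgHom k B).comp e = Bialgebra.counitAlgHom k D := by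
    have hB : (1 : WithConv (B →ₐ[k] k)) = toConv (Bialgebra.counitAlgHom k B) := by
      apply WithConv.ext; apply AlgHom.ext; intro x; simp [AlgHom.convOne_def]
    have h := congrArg WithConv.ofConv (map_one (E k))
    rw [hB, key] at h
    rw [h]
    ext x
    simp [AlgHom.convOne_def]
  have hcomul : (Algebra.TensorProduct.map e e).comp (Bialgebra.comulAlgHom k D) =
      (Bialgebra.comulAlgHom k B).comp e := by
    let l : WithConv (B →ₐ[k] B ⊗[k] B) := toConv Algebra.TensorProduct.includeLeft
    let r : WithConv (B →ₐ[k] B ⊗[k] B) := toConv Algebra.TensorProduct.includeRight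
    have hlr : (l * r).ofConv = Bialgebra.comulAlgHom k B := by
      apply AlgHom.ext; intro x
      rw [AlgHom.convMul_apply]
      have : Algebra.TensorProduct.lift l.ofConv r.ofConv (fun _ _ ↦ .all ..) = AlgHom.id k _ := by
        ext <;> simp [l, r]
      rw [this]
      rfl
    have h := congrArg WithConv.ofConv (map_mul (E (B ⊗[k] B)) l r)
    rw [show l * r = toConv (Bialgebra.comulAlgHom k B) from hlr ▸ (toConv_ofConv _).symm, key] at h
    rw [h]
    apply AlgHom.ext
    intro x
    rw [AlgHom.convMul_apply, key, key, AlgHom.comp_apply]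
    have hlift : Algebra.TensorProduct.lift (l.ofConv.comp e) (r.ofConv.comp e) (fun _ _ ↦ .all ..) =
        Algebra.TensorProduct.map e e := by
      ext <;> simp [l, r]
    rw [hlift]
    rfl
  exact ⟨BialgEquiv.ofBijective (BialgHom.ofAlgHom e hcounit hcomul)
    ⟨fun a b hab => by
      have := congrArg g₀ (show e a = e b from hab)
      rwa [← AlgHom.comp_apply, ← AlgHom.comp_apply, h1] at this,
      fun b => ⟨g₀ b, AlgHom.congr_fun h2 b⟩⟩⟩

end Groth.Agent.CartChar
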