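import Groth.Agent.CartChar.Points
import Groth.Agent.CartChar.Affine
import Groth.Agent.CartChar.Yoneda
import Groth.Agent.S15830

/-!
Points of the kernel of the transpose and points of the Cartier dual.
-/

set_option autoImplicit false
set_option backward.isDefEq.respectTransparency false
set_option backward.isDefEq.respectTransparency.types false
set_option linter.style.haveILetI false
set_option linter.unusedSectionVars false
set_option maxHeartbeats 1000000

universe u

open CategoryTheory MonoidalCategory CartesianMonoidalCategory MonObj GrpObj AlgebraicGeometry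
open WithConv
open scoped TensorProduct

noncomputable section

namespace Groth.Agent.CartChar

attribute [local instance] CoactBr.braidedAlgSpecOf

variable {k : Type u} [Field k]

section PtsB

variable {Xt Yt : Over (Spec (CommRingCat.of k))} [GrpObj Xt] [GrpObj Yt] {ft : Yt ⟶ Xt} [IsMonHom ft]
  {B : Type u} [CommRing B] [HopfAlgebra k B] {j : CoactBr.sp k B ⟶ Yt} [IsMonHom j]
  (hB : AlgGrp.IsKernel j ft) (R : Type u) [CommRing R] [Algebra k R]

/-- Points of the kernel. -/
def algPts : WithConv (B →ₐ[k] R) →* kerPts (Yt := Yt) (ft := ft) (CoactBr.sp k R) where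
  toFun φ := ⟨CoactBr.pt φ.ofConv ≫ j, by
    show (CoactBr.pt φ.ofConv ≫ j) ≫ ft = 1
    rw [Category.assoc, hB.w, ← Category.assoc, toUnit_unique (CoactBr.pt φ.ofConv ≫ toUnit _) (toUnit _),
      Hom.one_def]⟩
  map_one' := Subtype.ext (by
    show CoactBr.pt (1 : WithConv (B →ₐ[k] R)).ofConv ≫ j = 1
    rw [show CoactBr.pt (1 : WithConv (B →ₐ[k] R)).ofConv = 1 from ?_, MonObj.one_comp]
    rw [CoactBr.one_eq_pt]
    congr 1)
  map_mul' φ ψ := Subtype.ext (by
    show CoactBr.pt (φ * ψ).ofConv ≫ j = (CoactBr.pt φ.ofConv ≫ j) * (CoactBr.pt ψ.ofConv ≫ j)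
    rw [← MonObj.mul_comp, CoactBr.pt_mul_pt]
    congr 2
    apply AlgHom.ext
    intro x
    rw [AlgHom.convMul_apply]
    rfl)

theorem algPts_bijective : Function.Bijective (algPts hB R) := by
  refine ⟨fun φ ψ h => ?_, fun y => ?_⟩
  · have h1 : CoactBr.pt φ.ofConv ≫ j = CoactBr.pt ψ.ofConv ≫ j := congrArg Subtype.val h
    exact WithConv.ext (CoactBr.pt_injective (hB.hom_ext h1 (toUnit_unique _ _)))
  · obtain ⟨φ, hφ⟩ := CoactOrbit.exists_pt (hB.lift y.1 (toUnit _) ((show y.1 ≫ ft = 1 from y.2).trans Hom.one_def))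
    refine ⟨toConv φ, Subtype.ext ?_⟩
    show CoactBr.pt φ ≫ j = y.1
    rw [hφ]
    exact hB.lift_fst _ _ _

theorem algPts_natural {R' : Type u} [CommRing R'] [Algebra k R'] (φ : R →ₐ[k] R') (g : WithConv (B →ₐ[k] R)) :
    (algPts hB R' (toConv (φ.comp g.ofConv))).1 = CoactBr.pt φ ≫ (algPts hB R g).1 := by
  show CoactBr.pt (φ.comp g.ofConv) ≫ j = CoactBr.pt φ ≫ CoactBr.pt g.ofConv ≫ j
  rw [CoactBr.pt_comp, Category.assoc]

end PtsB

section CartierPts

variable {A : Type u} [CommRing A] [HopfAlgebra k A] [Coalgebra.IsCocomm k A] [FiniteDimensional k A]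

/-- Group-like elements and points of the dual. -/
def dualPts (R : Type u) [CommRing R] [Algebra k R] :
    GroupLike R (R ⊗[k] A) ≃* WithConv (CartDual.D k A →ₐ[k] R) := (S15830.result k A R).choose

theorem dualPts_apply (R : Type u) [CommRing R] [Algebra k R] (g : GroupLike R (R ⊗[k] A)) (x : CartDual.D k A) :
    (dualPts (k := k) R g).ofConv x = TensorProduct.rid k R (((CartDual.toDual k A x).lTensor R) g.val) :=
  (S15830.result k A R).choose_spec g x

theorem dualPts_natural {R R' : Type u} [CommRing R] [Algebra k R] [CommRing R'] [Algebra k R'] (φ : R →ₐ[k] R')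
    (g : GroupLike R (R ⊗[k] A)) (g' : GroupLike R' (R' ⊗[k] A))
    (h : g'.val = Algebra.TensorProduct.map φ (AlgHom.id k A) g.val) :
    dualPts R' g' = toConv (φ.comp (dualPts R g).ofConv) := by
  apply WithConv.ext
  apply AlgHom.ext
  intro x
  rw [ofConv_toConv, AlgHom.comp_apply, dualPts_apply, dualPts_apply, h]
  generalize g.val = z
  induction z using TensorProduct.induction_on with
  | zero => simp
  | tmul r a => simp
  | add p q hp hq => simp only [map_add, hp, hq]

end CartierPts

section Main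

variable {X Y Xt Yt : Over (Spec (CommRingCat.of k))}
  [GrpObj X] [IsCommMonObj X] [GrpObj Y] [IsCommMonObj Y] [GrpObj Xt] [GrpObj Yt]
  [IsProper X.hom] [Smooth X.hom] [GeometricallyConnected X.hom] [GeometricallyIntegral X.hom]
  [IsProper Y.hom] [Smooth Y.hom] [GeometricallyConnected Y.hom] [GeometricallyIntegral Y.hom]
  {φX : ∀ T : Over (Spec (CommRingCat.of k)), PicF.Cl (PicF.XT X.hom T) → (T ⟶ Xt)}
  {φY : ∀ T : Over (Spec (CommRingCat.of k)), PicF.Cl (PicF.XT Y.hom T) → (T ⟶ Yt)}
  (hX : AbDual.IsDualAV Scheme.fppfPrecoverage X Xt φX) (hY : AbDual.IsDualAV Scheme.fppfPrecoverage Y Yt φY)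
  (f : X ⟶ Y) [IsMonHom f] [Surjective f.left]
  {A : Type u} [CommRing A] [HopfAlgebra k A] [Coalgebra.IsCocomm k A] [FiniteDimensional k A]
  {i : CoactBr.sp k A ⟶ X} [IsMonHom i] (hA : AlgGrp.IsKernel i f)
  {ft : Yt ⟶ Xt} [IsMonHom ft] (hft : AbDual.IsTranspose f φX φY ft)
  {B : Type u} [CommRing B] [HopfAlgebra k B]
  {j : CoactBr.sp k B ⟶ Yt} [IsMonHom j] (hB : AlgGrp.IsKernel j ft)

/-- **Points of the kernel of the transpose are points of the Cartier dual.** -/
def ptsEquivDual (R : Type u) [CommRing R] [Algebra k R] :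
    WithConv (B →ₐ[k] R) ≃* WithConv (CartDual.D k A →ₐ[k] R) :=
  (MulEquiv.ofBijective (algPts hB R) (algPts_bijective hB R)).trans
    ((ptsEquivChar hX hY f hft hA (CoactBr.sp k R)).trans ((charEquiv (k := k) A R).symm.trans (dualPts (k := k) (A := A) R)))

theorem ptsEquivDual_natural (R R' : Type u) [CommRing R] [Algebra k R] [CommRing R'] [Algebra k R']
    (φ : R →ₐ[k] R') (g : WithConv (B →ₐ[k] R)) :
    ptsEquivDual hX hY f hA hft hB R' (toConv (φ.comp g.ofConv)) =
      toConv (φ.comp (ptsEquivDual hX hY f hA hft hB R g).ofConv) := by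
  refine dualPts_natural φ ((charEquiv (k := k) A R).symm _) ((charEquiv (k := k) A R').symm _) ?_
  apply (theta_bijective A R').1
  rw [← theta_natural, ← charEquiv_val, MulEquiv.apply_symm_apply, ← charEquiv_val, MulEquiv.apply_symm_apply]
  exact ptsEquivChar_natural hX hY f hft hA (CoactBr.pt φ) _ _ (algPts_natural hB R φ g)

include hX hY hA hft hB in
theorem nonempty_bialgEquiv : Nonempty (B ≃ₐc[k] CartDual.D k A) := by
  obtain ⟨e⟩ := nonempty_bialgEquiv_of_points (k := k) (B := B) (D := CartDual.D k A)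
    (fun R _ _ => ptsEquivDual hX hY f hA hft hB R) (fun R R' _ _ _ _ => ptsEquivDual_natural hX hY f hA hft hB R R')
  exact ⟨e.symm⟩

end Main

end Groth.Agent.CartChar
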